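import Groth.Agent.Lib.EllLiftB.Rigid
import Groth.Agent.Lib.Compl.Complete
import Mathlib.AlgebraicGeometry.EllipticCurve.IsomOfJ
import Mathlib.FieldTheory.IsAlgClosed.AlgebraicClosure
import Mathlib.RingTheory.Henselian
import Mathlib.RingTheory.IntegralClosure.IsIntegralClosure.Basic
import Mathlib.RingTheory.Artinian.Module

/-! Elliptic curves with the same `j` over a complete local domain with algebraically closed residue field. -/

universe u

open WeierstrassCurve IsLocalRing Polynomial

noncomputable section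

namespace Groth.Agent.EllLiftB

theorem isIntegral_of_eq_zero {R K : Type u} [CommRing R] [CommRing K] [Algebra R K] (x : K)
    (p : (integralClosure R K)[X]) (hp : p.Monic) (h : aeval x p = 0) : IsIntegral R x :=
  isIntegral_trans (A := integralClosure R K) x ⟨p, hp, h⟩

theorem exists_variableChange_of_complete (R : Type u) [CommRing R] [IsDomain R] [IsNoetherianRing R] [IsLocalRing R]
    [IsAdicComplete (maximalIdeal R) R] [IsAlgClosed (ResidueField R)]
    (W₁ W₂ : WeierstrassCurve R) [W₁.IsElliptic] [W₂.IsElliptic] (hj : W₁.j = W₂.j) :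
    ∃ C : VariableChange R, C • W₁ = W₂ := by
  classical
  let K := AlgebraicClosure (FractionRing R)
  let i : R →+* K := algebraMap R K
  have hi : Function.Injective i := by
    change Function.Injective (algebraMap R K)
    rw [IsScalarTower.algebraMap_eq R (FractionRing R) K]
    exact (algebraMap (FractionRing R) K).injective.comp (IsFractionRing.injective R _)
  obtain ⟨C, hC⟩ := exists_variableChange_of_j_eq (W₁.map i) (W₂.map i) (by rw [map_j, map_j, hj])
  have E : ∀ (n : ℕ) {a b : K}, (↑C.u⁻¹ : K) ^ n * a = b → a = (C.u : K) ^ n * b := fun n a b h => by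
    rw [← h, ← _root_.mul_assoc, ← mul_pow, Units.mul_inv, one_pow, _root_.one_mul]
  let R₁ := integralClosure R K
  have hR₁ : ∀ a : R, i a ∈ R₁ := fun a => R₁.algebraMap_mem a
  have hu12 : ∀ (v : Kˣ) (c : R), (v : K) ^ 12 = i c → IsIntegral R (v : K) := fun v c h =>
    ⟨X ^ 12 - Polynomial.C c, monic_X_pow_sub_C c (by norm_num), by simp [h, i]⟩
  have hΔ := congrArg WeierstrassCurve.Δ hC
  rw [variableChange_Δ, map_Δ, map_Δ] at hΔ
  have hD1 := W₁.isUnit_Δ
  have hD2 := W₂.isUnit_Δ
  obtain ⟨d₁, hd₁⟩ := hD1.exists_left_inv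
  obtain ⟨d₂, hd₂⟩ := hD2.exists_left_inv
  have hu : IsIntegral R (C.u : K) := hu12 C.u (d₂ * W₁.Δ) (by
    have e := E 12 hΔ
    have e2 := congrArg i hd₂
    simp only [map_mul, map_one] at e2 ⊢
    linear_combination (-(i d₂)) * e + (-(C.u : K) ^ 12) * e2)
  have hui : IsIntegral R ((C.u⁻¹ : Kˣ) : K) := hu12 C.u⁻¹ (d₁ * W₂.Δ) (by
    have e1 := congrArg i hd₁
    simp only [map_mul, map_one] at e1 ⊢
    linear_combination (i d₁) * hΔ + (-(↑C.u⁻¹ : K) ^ 12) * e1)
  have hr : IsIntegral R C.r := by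
    have e6 := congrArg WeierstrassCurve.b₆ hC
    have e8 := congrArg WeierstrassCurve.b₈ hC
    rw [variableChange_b₆] at e6
    rw [variableChange_b₈] at e8
    simp only [map_b₂, map_b₄, map_b₆, map_b₈] at e6 e8
    have e6' := E 6 e6
    have e8' := E 8 e8
    let u : R₁ := ⟨(C.u : K), hu⟩
    let c : R → R₁ := fun a => ⟨i a, hR₁ a⟩
    refine isIntegral_of_eq_zero C.r (X ^ 4 + (Polynomial.C (-c W₁.b₄) * X ^ 2 +
      Polynomial.C (-2 * c W₁.b₆ - u ^ 6 * c W₂.b₆) * X + Polynomial.C (-c W₁.b₈ + u ^ 8 * c W₂.b₈)))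
      (monic_X_pow_add (lt_of_le_of_lt degree_quadratic_le (by decide))) ?_
    simp only [map_add, map_mul, map_pow, aeval_X, aeval_C]
    change C.r ^ 4 + (-i W₁.b₄ * C.r ^ 2 + (-2 * i W₁.b₆ - (C.u : K) ^ 6 * i W₂.b₆) * C.r +
      (-i W₁.b₈ + (C.u : K) ^ 8 * i W₂.b₈)) = 0
    linear_combination C.r * e6' - e8'
  have hs : IsIntegral R C.s := by
    have e2 := congrArg WeierstrassCurve.a₂ hC
    rw [variableChange_a₂] at e2
    simp only [map_a₁, map_a₂] at e2
    have e2' := E 2 e2
    let u : R₁ := ⟨(C.u : K), hu⟩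
    let r : R₁ := ⟨C.r, hr⟩
    let c : R → R₁ := fun a => ⟨i a, hR₁ a⟩
    refine isIntegral_of_eq_zero C.s (X ^ 2 + (Polynomial.C (c W₁.a₁) * X +
      Polynomial.C (-c W₁.a₂ - 3 * r + u ^ 2 * c W₂.a₂)))
      (monic_X_pow_add (lt_of_le_of_lt degree_linear_le (by decide))) ?_
    simp only [map_add, map_mul, map_pow, aeval_X, aeval_C]
    change C.s ^ 2 + (i W₁.a₁ * C.s + (-i W₁.a₂ - 3 * C.r + (C.u : K) ^ 2 * i W₂.a₂)) = 0
    linear_combination -e2'
  have ht : IsIntegral R C.t := by
    have e6 := congrArg WeierstrassCurve.a₆ hC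
    rw [variableChange_a₆] at e6
    simp only [map_a₁, map_a₂, map_a₃, map_a₄, map_a₆] at e6
    have e6' := E 6 e6
    let u : R₁ := ⟨(C.u : K), hu⟩
    let r : R₁ := ⟨C.r, hr⟩
    let c : R → R₁ := fun a => ⟨i a, hR₁ a⟩
    refine isIntegral_of_eq_zero C.t (X ^ 2 + (Polynomial.C (c W₁.a₃ + r * c W₁.a₁) * X +
      Polynomial.C (-c W₁.a₆ - r * c W₁.a₄ - r ^ 2 * c W₁.a₂ - r ^ 3 + u ^ 6 * c W₂.a₆)))
      (monic_X_pow_add (lt_of_le_of_lt degree_linear_le (by decide))) ?_
    simp only [map_add, map_mul, map_pow, aeval_X, aeval_C]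
    change C.t ^ 2 + ((i W₁.a₃ + C.r * i W₁.a₁) * C.t + (-i W₁.a₆ - C.r * i W₁.a₄ - C.r ^ 2 * i W₁.a₂ - C.r ^ 3 +
      (C.u : K) ^ 6 * i W₂.a₆)) = 0
    linear_combination -e6'
  -- the finite `R`-algebra generated by the coefficients
  let s : Set K := {(C.u : K), ((C.u⁻¹ : Kˣ) : K), C.r, C.s, C.t}
  let S := Algebra.adjoin R s
  have hint : ∀ x ∈ s, IsIntegral R x := by
    rintro x (rfl | rfl | rfl | rfl | rfl)
    exacts [hu, hui, hr, hs, ht]
  haveI : Module.Finite R S := Module.Finite.iff_fg.mpr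
    (fg_adjoin_of_finite (Set.toFinite s) hint)
  haveI : IsNoetherianRing S := isNoetherianRing_of_fg (Subalgebra.fg_def.mpr ⟨s, Set.toFinite s, rfl⟩)
  have hmem : ∀ x ∈ s, x ∈ S := fun x hx => Algebra.subset_adjoin hx
  let iS : R →+* S := algebraMap R S
  let uS : Sˣ := ⟨⟨(C.u : K), hmem _ (by simp [s])⟩, ⟨((C.u⁻¹ : Kˣ) : K), hmem _ (by simp [s])⟩,
    Subtype.ext C.u.mul_inv, Subtype.ext C.u.inv_mul⟩
  let CS : VariableChange S := ⟨uS, ⟨C.r, hmem _ (by simp [s])⟩, ⟨C.s, hmem _ (by simp [s])⟩, ⟨C.t, hmem _ (by simp [s])⟩⟩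
  have hCS : CS • W₁.map iS = W₂.map iS := by
    apply WeierstrassCurve.map_injective (f := S.val.toRingHom) Subtype.val_injective
    change (CS • W₁.map iS).map S.val.toRingHom = (W₂.map iS).map S.val.toRingHom
    rw [← map_variableChange, WeierstrassCurve.map_map, WeierstrassCurve.map_map]
    have : CS.map S.val.toRingHom = C := by
      refine VariableChange.ext (Units.ext rfl) rfl rfl rfl
    rw [this]
    exact hC
  -- reduction
  let J : Ideal S := (maximalIdeal R).map iS
  haveI : IsAdicComplete J S :=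
    (IsAdicComplete.map_algebraMap_iff (maximalIdeal R) S).2 (Compl.isAdicComplete_of_finite (maximalIdeal R) S)
  have hjac : J ≤ (⊥ : Ideal S).jacobson := IsAdicComplete.le_jacobson_bot J
  let B := S ⧸ J
  let p : S →+* B := Ideal.Quotient.mk J
  haveI hJne : Nontrivial B := Ideal.Quotient.nontrivial_iff.mpr fun h => by
    have h1 : (1 : S) ∈ (⊥ : Ideal S).jacobson := hjac (h ▸ trivial)
    have := Ideal.mem_jacobson_bot.mp h1 (-1)
    simp at this
  have hker : ∀ a ∈ maximalIdeal R, p (iS a) = 0 := fun a ha =>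
    Ideal.Quotient.eq_zero_iff_mem.mpr (Ideal.mem_map_of_mem iS ha)
  let kB : ResidueField R →+* B := Ideal.Quotient.lift (maximalIdeal R) (p.comp iS) hker
  letI : Algebra (ResidueField R) B := kB.toAlgebra
  haveI : IsScalarTower R (ResidueField R) B := IsScalarTower.of_algebraMap_eq fun _ => rfl
  haveI : Module.Finite R B := Module.Finite.of_surjective (Ideal.Quotient.mkₐ R J).toLinearMap Ideal.Quotient.mk_surjective
  haveI : Module.Finite (ResidueField R) B := Module.Finite.of_restrictScalars_finite R _ _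
  haveI : IsArtinianRing B := IsArtinianRing.of_finite (ResidueField R) B
  haveI : HenselianRing S J := inferInstance
  have hidem : ∀ e : B, IsIdempotentElem e → e = 0 ∨ e = 1 := by
    intro e he
    obtain ⟨e₀, rfl⟩ := Ideal.Quotient.mk_surjective e
    obtain ⟨a, ha, hae⟩ := HenselianRing.is_henselian (I := J) (X ^ 2 - X : S[X])
      (monic_X_pow_sub (by rw [degree_X]; decide)) e₀
      (by
        rw [← Ideal.Quotient.eq_zero_iff_mem]
        simpa [sub_eq_zero, pow_two] using he.eq)
      (by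
        simp only [derivative_sub, derivative_X_pow, derivative_X, eval_sub, eval_mul, eval_C, eval_pow, eval_X,
          eval_one, eval_natCast, eval_ofNat, map_sub, map_mul, map_pow, map_one, map_natCast, map_ofNat]
        refine IsUnit.of_mul_eq_one (2 * Ideal.Quotient.mk J e₀ - 1) ?_
        push_cast
        linear_combination 4 * he.eq)
    simp only [IsRoot.def, eval_sub, eval_pow, eval_X, sub_eq_zero] at ha
    have : a = 0 ∨ a = 1 := by
      have h : a * (a - 1) = 0 := by linear_combination ha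
      exact (mul_eq_zero.mp h).imp id sub_eq_zero.mp
    rw [← Ideal.Quotient.eq.mpr hae]
    rcases this with rfl | rfl <;> simp
  have hunit : ∀ x : B, IsUnit x ∨ IsNilpotent x := by
    intro x
    obtain ⟨n, y, hy⟩ := IsArtinian.exists_pow_succ_smul_dvd x (1 : B)
    simp only [smul_eq_mul, mul_one] at hy
    have hk : ∀ m, x ^ n = x ^ n * (x * y) ^ m := by
      intro m
      induction m with
      | zero => simp
      | succ m ih => calc x ^ n = x ^ n * (x * y) ^ m := ih
          _ = x ^ (n + 1) * y * (x * y) ^ m := by rw [hy]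
          _ = _ := by ring
    rcases hidem ((x * y) ^ (n + 1)) (by
      change _ * _ = _
      calc (x * y) ^ (n + 1) * (x * y) ^ (n + 1) = (x ^ n * (x * y) ^ (n + 1)) * (x * y ^ (n + 1)) := by ring
        _ = x ^ n * (x * y ^ (n + 1)) := by rw [← hk]
        _ = _ := by ring) with h | h
    · exact Or.inr ⟨n, by rw [hk (n + 1), h, mul_zero]⟩
    · have hxy : IsUnit (x * y) := (isUnit_pow_iff (Nat.succ_ne_zero n)).mp (by rw [h]; exact isUnit_one)
      exact Or.inl (isUnit_of_dvd_unit (dvd_mul_right x y) hxy)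
  -- every element is congruent to a constant up to nilpotents
  have hconst : ∀ x : B, ∃ c : R, IsNilpotent (x - p (iS c)) := by
    have hmax : (nilradical B).IsMaximal := by
      refine Ideal.isMaximal_iff.mpr ⟨fun h => not_isNilpotent_one (mem_nilradical.mp h), fun K' x hle hx hxK => ?_⟩
      rcases hunit x with h | h
      · exact (Ideal.eq_top_of_isUnit_mem _ hxK h).symm ▸ trivial
      · exact absurd (mem_nilradical.mpr h) hx
    letI := Ideal.Quotient.field (nilradical B)
    haveI : Module.Finite (ResidueField R) (B ⧸ nilradical B) :=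
      Module.Finite.of_surjective (Ideal.Quotient.mkₐ (ResidueField R) (nilradical B)).toLinearMap Ideal.Quotient.mk_surjective
    haveI : Algebra.IsIntegral (ResidueField R) (B ⧸ nilradical B) := Algebra.IsIntegral.of_finite _ _
    intro x
    obtain ⟨c, hc⟩ := (IsAlgClosed.algebraMap_bijective_of_isIntegral (k := ResidueField R) (K := B ⧸ nilradical B)).2
      (Ideal.Quotient.mk (nilradical B) x)
    obtain ⟨c, rfl⟩ := Ideal.Quotient.mk_surjective c
    refine ⟨c, mem_nilradical.mp (Ideal.Quotient.eq.mp ?_)⟩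
    exact hc.symm
  have hzero : ∀ a : R, IsNilpotent (p (iS a)) → p (iS a) = 0 := fun a ha => by
    by_cases h : a ∈ maximalIdeal R
    · exact hker a h
    · exact absurd ha (((notMem_maximalIdeal.mp h).map iS).map p).not_isNilpotent
  choose cst hcst using hconst
  set CB := CS.map p with hCB
  obtain ⟨cu, hcu⟩ : ∃ v : Rˣ, IsNilpotent ((CB.u : B) - p (iS v)) := by
    have hcu := hcst (CB.u : B)
    refine ⟨IsUnit.unit (a := cst (CB.u : B)) (by_contra fun h => ?_), hcu⟩
    rw [hker _ h, sub_zero] at hcu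
    exact CB.u.isUnit.not_isNilpotent hcu
  let C₀ : VariableChange R := ⟨cu, cst CB.r, cst CB.s, cst CB.t⟩
  let N := nilradical B
  letI : CommRing (B ⧸ N) := Ideal.Quotient.commRing N
  let q : B →+* B ⧸ N := Ideal.Quotient.mk N
  have hq : ∀ {x y : B}, IsNilpotent (x - y) → q x = q y := fun h => Ideal.Quotient.eq.mpr (mem_nilradical.mpr h)
  have hCq : CB.map q = C₀.map ((q.comp p).comp iS) :=
    VariableChange.ext (Units.ext (hq hcu)) (hq (hcst CB.r)) (hq (hcst CB.s)) (hq (hcst CB.t))
  have hCB' : CB • (W₁.map (p.comp iS)) = W₂.map (p.comp iS) := by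
    rw [← WeierstrassCurve.map_map, hCB, map_variableChange, hCS, WeierstrassCurve.map_map]
  have h0 : C₀.map (p.comp iS) • W₁.map (p.comp iS) = W₂.map (p.comp iS) := by
    have h := congrArg (fun V : WeierstrassCurve B => V.map q) hCB'
    simp only [← map_variableChange, WeierstrassCurve.map_map, hCq] at h
    rw [RingHom.comp_assoc, map_variableChange] at h
    rw [map_variableChange]
    have key : ∀ {a b : R}, q (p (iS a)) = q (p (iS b)) → p (iS a) = p (iS b) := fun {a b} hab => by
      rw [← sub_eq_zero, ← map_sub p, ← map_sub iS]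
      refine hzero _ ?_
      rw [map_sub, map_sub]
      exact mem_nilradical.mp (Ideal.Quotient.eq.mp hab)
    exact WeierstrassCurve.ext (key (congrArg WeierstrassCurve.a₁ h)) (key (congrArg WeierstrassCurve.a₂ h))
      (key (congrArg WeierstrassCurve.a₃ h)) (key (congrArg WeierstrassCurve.a₄ h))
      (key (congrArg WeierstrassCurve.a₆ h))
  set D := (C₀.map (p.comp iS))⁻¹ * CB with hD
  have hDfix : D • W₁.map (p.comp iS) = W₁.map (p.comp iS) := by
    rw [hD, mul_smul, hCB', ← h0, inv_smul_smul]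
  have hDq : D.map q = 1 := by
    have e := map_mul (VariableChange.mapHom q) ((C₀.map (p.comp iS))⁻¹) CB
    rw [map_inv] at e
    change D.map q = ((C₀.map (p.comp iS)).map q)⁻¹ * CB.map q at e
    rw [e, hCq, VariableChange.map_map, RingHom.comp_assoc, inv_mul_cancel]
  have hnil : ∀ {x : B}, q x = 0 → IsNilpotent x := fun h => mem_nilradical.mp (Ideal.Quotient.eq_zero_iff_mem.mp h)
  have hWk : W₁.map (p.comp iS) = (W₁.map (IsLocalRing.residue R)).map kB := by
    rw [WeierstrassCurve.map_map]; rfl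
  have hD1' : D = 1 := by
    rw [hWk] at hDfix
    refine rigid kB (W₁.map (IsLocalRing.residue R)) ?_ D hDfix ?_ ?_ ?_ ?_
    · rw [map_Δ]; exact (hD1.map _).ne_zero
    · refine hnil ?_
      rw [map_sub, map_one, sub_eq_zero]
      exact congrArg (fun c : VariableChange (B ⧸ N) => (c.u : B ⧸ N)) hDq
    · exact hnil (congrArg VariableChange.r hDq)
    · exact hnil (congrArg VariableChange.s hDq)
    · exact hnil (congrArg VariableChange.t hDq)
  have hCBeq : CB = C₀.map (p.comp iS) := (inv_mul_eq_one.mp hD1').symm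
  -- `R → S` is surjective
  have htop : ∀ x : S, ∃ c : R, p x = p (iS c) := by
    have hs' : ∀ x ∈ s, ∀ hx : x ∈ S, ∃ c : R, p ⟨x, hx⟩ = p (iS c) := by
      rintro x (rfl | rfl | rfl | rfl | rfl) hx
      · exact ⟨cu, congrArg (fun c : VariableChange B => (c.u : B)) hCBeq⟩
      · exact ⟨(cu⁻¹ : Rˣ), congrArg (fun c : VariableChange B => ((c.u⁻¹ : Bˣ) : B)) hCBeq⟩
      · exact ⟨_, congrArg VariableChange.r hCBeq⟩
      · exact ⟨_, congrArg VariableChange.s hCBeq⟩
      · exact ⟨_, congrArg VariableChange.t hCBeq⟩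
    rintro ⟨x, hx⟩
    induction hx using Algebra.adjoin_induction with
    | mem x hx => exact hs' x hx _
    | algebraMap a => exact ⟨a, rfl⟩
    | add x y hx hy ihx ihy =>
      obtain ⟨a, ha⟩ := ihx; obtain ⟨b, hb⟩ := ihy
      exact ⟨a + b, by rw [map_add, map_add, ← ha, ← hb, ← map_add]; rfl⟩
    | mul x y hx hy ihx ihy =>
      obtain ⟨a, ha⟩ := ihx; obtain ⟨b, hb⟩ := ihy
      exact ⟨a * b, by rw [map_mul, map_mul, ← ha, ← hb, ← map_mul]; rfl⟩
  have hsurj : Function.Surjective iS := by
    have h : (⊤ : Submodule R S) ≤ LinearMap.range (Algebra.linearMap R S) := by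
      refine Submodule.le_of_le_smul_of_le_jacobson_bot Module.Finite.fg_top
        (IsAdicComplete.le_jacobson_bot (maximalIdeal R)) ?_
      intro x _
      obtain ⟨c, hc⟩ := htop x
      rw [show x = iS c + (x - iS c) by ring]
      refine Submodule.add_mem_sup ⟨c, rfl⟩ ?_
      rw [Ideal.smul_top_eq_map]
      exact Ideal.Quotient.eq.mp hc
    exact fun x => h (Submodule.mem_top (x := x))
  let e := RingEquiv.ofBijective iS ⟨fun a b h => hi (congrArg Subtype.val h), hsurj⟩
  refine ⟨CS.map e.symm.toRingHom, ?_⟩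
  have := congrArg (fun V : WeierstrassCurve S => V.map e.symm.toRingHom) hCS
  simp only [← map_variableChange, WeierstrassCurve.map_map] at this
  rwa [show e.symm.toRingHom.comp iS = RingHom.id R from RingHom.ext e.symm_apply_apply,
    WeierstrassCurve.map_id, WeierstrassCurve.map_id] at this

end Groth.Agent.EllLiftB

end
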