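import Mathlib.AlgebraicGeometry.EllipticCurve.VariableChange
import Mathlib.RingTheory.Etale.StandardEtale
import Mathlib.RingTheory.RingHom.Etale
import Mathlib.RingTheory.Spectrum.Prime.Basic
import Mathlib.FieldTheory.IsAlgClosed.AlgebraicClosure
import Mathlib.RingTheory.LocalRing.ResidueField.Ideal
import Mathlib.Tactic.LinearCombination

/-!
Two elliptic curves with the same `j ≠ 0, 1728` are isomorphic étale locally.
A point is carried as a ring map `φ` to an algebraically closed field.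
-/

universe u

open Polynomial WeierstrassCurve

noncomputable section

namespace Groth.Agent.EllLiftB

variable {L : Type u} [Field L]

/-- isomorphic on an étale neighbourhood of `φ` -/
def Good (A : Type u) [CommRing A] (φ : A →+* L) (W₁ W₂ : WeierstrassCurve A) : Prop :=
  ∃ (B : Type u) (_ : CommRing B) (_ : Algebra A B), Algebra.Etale A B ∧
    (∃ ψ : B →+* L, ψ.comp (algebraMap A B) = φ) ∧
    ∃ C : VariableChange B, C • W₁.map (algebraMap A B) = W₂.map (algebraMap A B)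

variable {A : Type u} [CommRing A] {φ : A →+* L} {W₁ W₂ : WeierstrassCurve A}

theorem good_of_eq (h : W₁ = W₂) : Good A φ W₁ W₂ :=
  ⟨A, inferInstance, Algebra.id A, inferInstance, ⟨φ, RingHom.comp_id φ⟩, 1, by rw [h, one_smul]⟩

theorem good_trans {B : Type u} [CommRing B] [Algebra A B] [Algebra.Etale A B] (ψ : B →+* L)
    (hψ : ψ.comp (algebraMap A B) = φ) (h : Good B ψ (W₁.map (algebraMap A B)) (W₂.map (algebraMap A B))) :
    Good A φ W₁ W₂ := by
  obtain ⟨D, _, _, hD, ⟨χ, hχ⟩, C, hC⟩ := h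
  letI : Algebra A D := ((algebraMap B D).comp (algebraMap A B)).toAlgebra
  haveI : IsScalarTower A B D := IsScalarTower.of_algebraMap_eq fun _ => rfl
  haveI := hD
  refine ⟨D, inferInstance, inferInstance, Algebra.Etale.comp A B D, ⟨χ, ?_⟩, C, ?_⟩
  · rw [← hψ, ← hχ]; rfl
  · rw [WeierstrassCurve.map_map, WeierstrassCurve.map_map] at hC
    exact hC

theorem good_smul (C₁ C₂ : VariableChange A) (h : Good A φ (C₁ • W₁) (C₂ • W₂)) : Good A φ W₁ W₂ := by
  obtain ⟨B, _, _, hB, hψ, C, hC⟩ := h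
  refine ⟨B, inferInstance, inferInstance, hB, hψ, (C₂.map (algebraMap A B))⁻¹ * C * C₁.map (algebraMap A B), ?_⟩
  rw [mul_smul, mul_smul, map_variableChange, hC, ← map_variableChange, inv_smul_smul]

/-- make `g` invertible -/
theorem good_away (g : A) (hg : φ g ≠ 0)
    (h : ∀ (B : Type u) [CommRing B] (i : A →+* B) (ψ : B →+* L), ψ.comp i = φ → IsUnit (i g) →
      Good B ψ (W₁.map i) (W₂.map i)) : Good A φ W₁ W₂ := by
  haveI : Algebra.Etale A (Localization.Away g) := Algebra.Etale.of_isLocalizationAway g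
  have hψ : (IsLocalization.Away.lift g (S := Localization.Away g) (hg.isUnit : IsUnit (φ g))).comp (algebraMap A _) = φ :=
    RingHom.ext fun a => IsLocalization.Away.lift_eq (S := Localization.Away g) g (hg.isUnit : IsUnit (φ g)) a
  exact good_trans _ hψ (h _ _ _ hψ (IsLocalization.Away.algebraMap_isUnit g))

/-- adjoin a simple root of `X² + bX + c` at which `d₁ X + d₀` is invertible -/
theorem good_root (b c d₁ d₀ : A) (β : L) (hβ : β ^ 2 + φ b * β + φ c = 0) (hd : 2 * β + φ b ≠ 0)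
    (hh : φ d₁ * β + φ d₀ ≠ 0)
    (h : ∀ (B : Type u) [CommRing B] (i : A →+* B) (ψ : B →+* L) (x : B), ψ.comp i = φ → ψ x = β →
      x ^ 2 + i b * x + i c = 0 → IsUnit (i d₁ * x + i d₀) → Good B ψ (W₁.map i) (W₂.map i)) :
    Good A φ W₁ W₂ := by
  let f : A[X] := X ^ 2 + (C b * X + C c)
  let P : StandardEtalePair A :=
    { f := f
      monic_f := monic_X_pow_add (lt_of_le_of_lt (degree_linear_le) (by decide))
      g := derivative f * (C d₁ * X + C d₀)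
      cond := ⟨C d₁ * X + C d₀, 0, 1, by simp⟩ }
  letI : Algebra A L := φ.toAlgebra
  have hm : P.HasMap β := by
    constructor
    · simpa [P, f, RingHom.algebraMap_toAlgebra, add_assoc] using hβ
    · refine Ne.isUnit ?_
      simpa [P, f, RingHom.algebraMap_toAlgebra, derivative_pow, one_add_one_eq_two, map_ofNat] using mul_ne_zero hd hh
  haveI : Algebra.Etale A P.Ring := inferInstance
  refine good_trans (P.lift β hm).toRingHom (P.lift β hm).comp_algebraMap (h _ _ _ P.X (P.lift β hm).comp_algebraMap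
    (P.lift_X β hm) ?_ ?_)
  · simpa [P, f, add_assoc] using P.hasMap_X.1
  · have := P.hasMap_X.2
    simp only [P, f, map_mul, map_add, aeval_C, aeval_X] at this
    exact isUnit_of_mul_isUnit_right this

/-! ### elementary algebra -/

theorem isUnit_c₄_c₆ (W : WeierstrassCurve A) [W.IsElliptic] (h0 : IsUnit W.j) (h1728 : IsUnit (W.j - 1728)) :
    IsUnit W.c₄ ∧ IsUnit W.c₆ := by
  constructor
  · rw [WeierstrassCurve.j] at h0
    exact (isUnit_pow_iff (by norm_num : (3 : ℕ) ≠ 0)).mp (isUnit_of_mul_isUnit_right h0)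
  · have e : (W.Δ : A) * (W.j - 1728) = W.c₆ ^ 2 := by
      rw [WeierstrassCurve.j, mul_sub, ← _root_.mul_assoc, ← W.coe_Δ', Units.mul_inv, _root_.one_mul, W.coe_Δ']
      linear_combination -W.c_relation
    exact (isUnit_pow_iff (by norm_num : (2 : ℕ) ≠ 0)).mp (e ▸ W.isUnit_Δ.mul h1728)

theorem Δ_eq_of_c₄_eq [W₁.IsElliptic] [W₂.IsElliptic] (hj : W₁.j = W₂.j) (hc : W₁.c₄ = W₂.c₄)
    (hu : IsUnit W₁.c₄) : W₁.Δ = W₂.Δ := by
  rw [WeierstrassCurve.j, WeierstrassCurve.j, ← hc] at hj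
  have h := (hu.pow 3).mul_right_cancel hj
  have h := inv_injective (Units.ext h)
  rw [← W₁.coe_Δ', h, W₂.coe_Δ']

/-- `w` in `Δ₁ - Δ₂ = (a₆ - a₆') w` -/
def w (W₁ W₂ : WeierstrassCurve A) : A := -W₁.b₂ ^ 3 + 36 * W₁.b₂ * W₁.b₄ - 108 * (W₁.b₆ + W₂.b₆)

theorem Δ_sub (h1 : W₁.a₁ = W₂.a₁) (h2 : W₁.a₂ = W₂.a₂) (h3 : W₁.a₃ = W₂.a₃) (h4 : W₁.a₄ = W₂.a₄) :
    W₁.Δ - W₂.Δ = (W₁.a₆ - W₂.a₆) * w W₁ W₂ := by
  simp only [w, Δ, b₂, b₄, b₆, b₈, h1, h2, h3, h4]
  ring1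

theorem good_of_w [W₁.IsElliptic] [W₂.IsElliptic] (hj : W₁.j = W₂.j) (hu : IsUnit W₁.c₄) (hw : IsUnit (w W₁ W₂))
    (h1 : W₁.a₁ = W₂.a₁) (h2 : W₁.a₂ = W₂.a₂) (h3 : W₁.a₃ = W₂.a₃) (h4 : W₁.a₄ = W₂.a₄) : Good A φ W₁ W₂ := by
  refine good_of_eq (WeierstrassCurve.ext h1 h2 h3 h4 ?_)
  have e : W₁.Δ = W₂.Δ := Δ_eq_of_c₄_eq hj (by simp only [c₄, b₂, b₄, h1, h2, h3, h4]) hu
  have := Δ_sub h1 h2 h3 h4
  rw [e, sub_self] at this
  exact sub_eq_zero.mp (hw.mul_left_eq_zero.mp this.symm)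

/-! ### the case `2` invertible -/

theorem good_two_final [W₁.IsElliptic] [W₂.IsElliptic] (hj : W₁.j = W₂.j) (two : IsUnit (2 : A))
    (hu : IsUnit W₁.c₄) (hu6 : IsUnit W₁.c₆) (hc6 : W₁.c₆ = W₂.c₆)
    (h1 : W₁.a₁ = W₂.a₁) (h2 : W₁.a₂ = W₂.a₂) (h3 : W₁.a₃ = W₂.a₃) (h4 : W₁.a₄ = W₂.a₄) : Good A φ W₁ W₂ := by
  refine good_of_w hj hu ?_ h1 h2 h3 h4
  have e : (2 : A) * w W₁ W₂ = 2 * W₁.c₆ := by
    have : W₁.c₆ + W₂.c₆ = 2 * w W₁ W₂ := by
      simp only [w, c₆, b₂, b₄, h1, h2, h3, h4]; ring1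
    rw [← this, hc6, two_mul]
  rw [two.mul_left_cancel e]
  exact hu6

theorem good_two_r [W₁.IsElliptic] [W₂.IsElliptic] (hj : W₁.j = W₂.j) (two : IsUnit (2 : A))
    (hu : IsUnit W₁.c₄) (hu6 : IsUnit W₁.c₆) (hc4 : W₁.c₄ = W₂.c₄) (hc6 : W₁.c₆ = W₂.c₆)
    (h1 : W₁.a₁ = 0) (h3 : W₁.a₃ = 0) (h1' : W₂.a₁ = 0) (h3' : W₂.a₃ = 0) : Good A φ W₁ W₂ := by
  have key : W₁.a₂ ^ 2 - W₂.a₂ ^ 2 = 3 * (W₁.a₄ - W₂.a₄) := by
    simp only [c₄, b₂, b₄, h1, h3, h1', h3'] at hc4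
    exact (two.pow 4).mul_left_cancel (by linear_combination hc4)
  -- given `r` solving both equations
  have fin : ∀ {B : Type u} [CommRing B] (i : A →+* B) (ψ : B →+* L) (r : B),
      3 * r = i W₂.a₂ - i W₁.a₂ → r * (i W₁.a₂ + i W₂.a₂) = i W₂.a₄ - i W₁.a₄ →
      Good B ψ (W₁.map i) (W₂.map i) := by
    intro B _ i ψ r e2 e4
    refine good_smul ⟨1, r, 0, 0⟩ 1 ?_
    rw [one_smul]
    refine good_two_final ?_ (by simpa [map_ofNat] using two.map i) ?_ ?_ ?_ ?_ ?_ ?_ ?_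
    · rw [variableChange_j, map_j, map_j, hj]
    · rw [variableChange_c₄]; simpa using hu.map i
    · rw [variableChange_c₆]; simpa using hu6.map i
    · rw [variableChange_c₆]; simp [hc6]
    · simp [variableChange_a₁, h1, h1']
    · simp [variableChange_a₂, h1]; linear_combination e2
    · simp [variableChange_a₃, h1, h3, h3']
    · simp [variableChange_a₄, h1, h3]; linear_combination r * e2 + e4
  rcases ne_or_eq (φ 3) 0 with h | h
  · refine good_away 3 h fun B _ i ψ hψ h3u => ?_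
    obtain ⟨a, ha⟩ := h3u.exists_left_inv
    rw [map_ofNat] at ha
    have key' : i W₁.a₂ ^ 2 - i W₂.a₂ ^ 2 = 3 * (i W₁.a₄ - i W₂.a₄) := by
      have := congrArg i key; simpa [map_ofNat] using this
    refine fin i ψ (a * (i W₂.a₂ - i W₁.a₂)) (by linear_combination (i W₂.a₂ - i W₁.a₂) * ha) ?_
    linear_combination (-a) * key' + (i W₂.a₄ - i W₁.a₄) * ha
  · have hne : φ (W₁.a₂ + W₂.a₂) ≠ 0 := by
      intro hz
      rw [map_add] at hz
      have e := congrArg φ hc6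
      simp only [c₆, b₂, b₄, b₆, h1, h3, h1', h3', map_add, map_sub, map_mul, map_neg, map_pow, map_ofNat,
        map_zero] at e
      have e3 : (3 : L) = 0 := by simpa [map_ofNat] using h
      have u6 := (hu6.map φ).ne_zero
      simp only [c₆, b₂, b₄, b₆, h1, h3, map_add, map_sub, map_mul, map_neg, map_pow, map_ofNat, map_zero] at u6
      apply u6
      have e2 : (2 : L) ≠ 0 := by simpa [map_ofNat] using (two.map φ).ne_zero
      apply mul_left_cancel₀ e2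
      have hz' : φ W₂.a₂ = -φ W₁.a₂ := by linear_combination hz
      rw [hz'] at e
      linear_combination e + (96 * φ W₁.a₂ * φ W₁.a₄ - 288 * φ W₁.a₆ - 96 * φ W₁.a₂ * φ W₂.a₄ - 288 * φ W₂.a₆) * e3
    refine good_away _ hne fun B _ i ψ hψ hun => ?_
    obtain ⟨a, ha⟩ := hun.exists_left_inv
    rw [map_add] at ha
    have key' : i W₁.a₂ ^ 2 - i W₂.a₂ ^ 2 = 3 * (i W₁.a₄ - i W₂.a₄) := by
      have := congrArg i key; simpa [map_ofNat] using this
    refine fin i ψ (a * (i W₂.a₄ - i W₁.a₄)) ?_ (by linear_combination (i W₂.a₄ - i W₁.a₄) * ha)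
    linear_combination a * key' + (i W₂.a₂ - i W₁.a₂) * ha

theorem good_two [IsAlgClosed L] [W₁.IsElliptic] [W₂.IsElliptic] (hj : W₁.j = W₂.j) (two : IsUnit (2 : A))
    (h0 : IsUnit W₁.j) (h1728 : IsUnit (W₁.j - 1728)) : Good A φ W₁ W₂ := by
  obtain ⟨a, ha⟩ := two.exists_left_inv
  refine good_smul ⟨1, 0, -a * W₁.a₁, -a * W₁.a₃⟩ ⟨1, 0, -a * W₂.a₁, -a * W₂.a₃⟩ ?_
  set V₁ := (⟨1, 0, -a * W₁.a₁, -a * W₁.a₃⟩ : VariableChange A) • W₁ with hV₁
  set V₂ := (⟨1, 0, -a * W₂.a₁, -a * W₂.a₃⟩ : VariableChange A) • W₂ with hV₂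
  have h1 : V₁.a₁ = 0 := by simp [V₁, variableChange_a₁]; linear_combination (-W₁.a₁) * ha
  have h3 : V₁.a₃ = 0 := by simp [V₁, variableChange_a₃]; linear_combination (-W₁.a₃) * ha
  have h1' : V₂.a₁ = 0 := by simp [V₂, variableChange_a₁]; linear_combination (-W₂.a₁) * ha
  have h3' : V₂.a₃ = 0 := by simp [V₂, variableChange_a₃]; linear_combination (-W₂.a₃) * ha
  haveI : V₁.IsElliptic := by rw [hV₁]; infer_instance
  haveI : V₂.IsElliptic := by rw [hV₂]; infer_instance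
  have hjV : V₁.j = V₂.j := by simp only [V₁, V₂, variableChange_j]; exact hj
  obtain ⟨⟨p, hp⟩, ⟨n, hn⟩⟩ := isUnit_c₄_c₆ V₁ (by simpa [V₁] using h0) (by simpa [V₁] using h1728)
  obtain ⟨⟨p', hp'⟩, ⟨n', hn'⟩⟩ := isUnit_c₄_c₆ V₂ (by simpa [V₂, ← hj] using h0) (by simpa [V₂, ← hj] using h1728)
  have hpn : p ^ 3 * n' ^ 2 = n ^ 2 * p' ^ 3 := by
    apply Units.ext
    simp only [Units.val_mul, Units.val_pow_eq_pow_val, hp, hn, hp', hn']
    simp only [WeierstrassCurve.j] at hjV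
    have e : (V₁.Δ' : A) * (V₁.Δ'⁻¹ : Aˣ) = 1 := Units.mul_inv _
    have e' : (V₂.Δ' : A) * (V₂.Δ'⁻¹ : Aˣ) = 1 := Units.mul_inv _
    rw [V₁.coe_Δ'] at e; rw [V₂.coe_Δ'] at e'
    have hcross : V₁.c₄ ^ 3 * V₂.Δ = V₂.c₄ ^ 3 * V₁.Δ := by
      linear_combination (V₁.Δ * V₂.Δ) * hjV - V₁.c₄ ^ 3 * V₂.Δ * e + V₂.c₄ ^ 3 * V₁.Δ * e'
    linear_combination V₁.c₄ ^ 3 * V₂.c_relation - V₂.c₄ ^ 3 * V₁.c_relation - 1728 * hcross
  let q : Aˣ := n * p' * (p * n')⁻¹
  obtain ⟨β, hβ⟩ := IsAlgClosed.exists_pow_nat_eq (φ q) (n := 2) (by norm_num)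
  have hβ0 : β ≠ 0 := by
    rintro rfl
    rw [zero_pow two_ne_zero] at hβ
    exact (q.isUnit.map φ).ne_zero hβ.symm
  refine good_root 0 (-(q : A)) 1 0 β (by simp [hβ]) ?_ (by simpa using hβ0) ?_
  · have : (2 : L) ≠ 0 := by simpa [map_ofNat] using (two.map φ).ne_zero
    simpa using mul_ne_zero this hβ0
  intro B _ i ψ x hψ hx hrel hxu
  simp only [map_zero, zero_mul, add_zero, map_one, _root_.one_mul, map_neg] at hrel hxu
  have hsq : x ^ 2 = i q := by linear_combination hrel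
  let C : VariableChange B := ⟨hxu.unit, 0, 0, 0⟩
  refine good_smul C 1 ?_
  rw [one_smul]
  have hq : q * (p * n') = n * p' := inv_mul_cancel_right _ _
  let I : Aˣ →* Bˣ := Units.map i.toMonoidHom
  have hU : hxu.unit ^ 2 = I q := Units.ext (by simpa [I] using hsq)
  have e4 : hxu.unit⁻¹ ^ 4 * I p = I p' := by
    have : hxu.unit ^ 4 * I p' = I p := by
      rw [show hxu.unit ^ 4 = (hxu.unit ^ 2) ^ 2 by rw [← pow_mul], hU, ← map_pow, ← map_mul]
      congr 1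
      refine mul_right_cancel (b := (p * n') ^ 2) ?_
      calc q ^ 2 * p' * (p * n') ^ 2 = (q * (p * n')) ^ 2 * p' := by rw [mul_pow q, mul_right_comm]
        _ = n ^ 2 * p' ^ 3 := by rw [hq, mul_pow, _root_.mul_assoc, ← pow_succ]
        _ = p * (p * n') ^ 2 := by rw [← hpn, mul_pow, ← _root_.mul_assoc, ← pow_succ']
    rw [← this, inv_pow, inv_mul_cancel_left]
  have e6 : hxu.unit⁻¹ ^ 6 * I n = I n' := by
    have : hxu.unit ^ 6 * I n' = I n := by
      rw [show hxu.unit ^ 6 = (hxu.unit ^ 2) ^ 3 by rw [← pow_mul], hU, ← map_pow, ← map_mul]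
      congr 1
      refine mul_right_cancel (b := (p * n') ^ 3) ?_
      calc q ^ 3 * n' * (p * n') ^ 3 = (q * (p * n')) ^ 3 * n' := by rw [mul_pow q, mul_right_comm]
        _ = n * (n ^ 2 * p' ^ 3) * n' := by rw [hq, mul_pow, ← _root_.mul_assoc n, ← pow_succ']
        _ = n * (p ^ 3 * n' ^ 2) * n' := by rw [← hpn]
        _ = n * (p * n') ^ 3 := by rw [mul_pow, _root_.mul_assoc, _root_.mul_assoc, ← pow_succ n' 2]
    rw [← this, inv_pow, inv_mul_cancel_left]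
  have k4 := congrArg Units.val e4
  have k6 := congrArg Units.val e6
  simp only [I, Units.val_mul, Units.val_pow_eq_pow_val, Units.coe_map, RingHom.toMonoidHom_eq_coe, MonoidHom.coe_coe,
    hp, hn, hp', hn'] at k4 k6
  refine good_two_r ?_ (by simpa [map_ofNat] using two.map i) ?_ ?_ ?_ ?_ ?_ ?_ ?_ ?_
  · rw [variableChange_j, map_j, map_j, hjV]
  · rw [variableChange_c₄, map_c₄, k4, ← hp']; exact p'.isUnit.map i
  · rw [variableChange_c₆, map_c₆, k6, ← hn']; exact n'.isUnit.map i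
  · rw [variableChange_c₄, map_c₄, map_c₄, k4]
  · rw [variableChange_c₆, map_c₆, map_c₆, k6]
  · simp [C, variableChange_a₁, h1]
  · simp [C, variableChange_a₃, h3, h1]
  · simp [h1']
  · simp [h3']

/-! ### the case `2 = 0` at the point -/

theorem good_char_two_normal [IsAlgClosed L] [W₁.IsElliptic] [W₂.IsElliptic] (hj : W₁.j = W₂.j) (h2 : φ 2 = 0)
    (hu : IsUnit W₂.c₄) (hu1 : IsUnit W₁.c₄)
    (h1 : W₁.a₁ = 1) (h3 : W₁.a₃ = 0) (h1' : W₂.a₁ = 1) (h3' : W₂.a₃ = 0) : Good A φ W₁ W₂ := by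
  have two : (2 : L) = 0 := by simpa [map_ofNat] using h2
  have hb : φ W₁.b₂ = 1 := by
    simp only [b₂, h1, map_add, map_mul, map_pow, map_one, map_ofNat]; linear_combination 2 * φ W₁.a₂ * two
  have hb' : φ W₂.b₂ = 1 := by
    simp only [b₂, h1', map_add, map_mul, map_pow, map_one, map_ofNat]; linear_combination 2 * φ W₂.a₂ * two
  obtain ⟨c, hc⟩ := hu.exists_left_inv
  set K : A := c * (W₂.b₂ ^ 2 * W₁.a₄ - W₁.b₂ ^ 2 * W₂.a₄) with hK
  refine good_root (-W₁.b₂) (12 * K) 1 0 1 ?_ ?_ (by simp) ?_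
  · simp only [map_neg, map_mul, map_ofNat, hb]; linear_combination 6 * φ K * two
  · simp [hb]; rw [show (2 : L) + -1 = 1 by ring]; exact one_ne_zero
  intro B _ i ψ x hψ hx hrel hxu
  simp only [map_one, _root_.one_mul, map_zero, add_zero, map_neg, map_mul, map_ofNat] at hrel hxu
  obtain ⟨xi, hxi⟩ := hxu.exists_left_inv
  set t : B := i K * xi with ht
  have two' : ψ 2 = 0 := by rw [map_ofNat]; exact two
  refine good_away (i W₂.b₂) (by rw [← RingHom.comp_apply, hψ, hb']; exact one_ne_zero) fun B₂ _ j χ hχ hbu => ?_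
  obtain ⟨bi, hbi⟩ := hbu.exists_left_inv
  have two₂ : χ 2 = 0 := by rw [map_ofNat]; exact two
  set σ : B₂ := bi * j (i W₁.a₂ - i W₂.a₂ - 6 * t) with hσ
  obtain ⟨β, hβ⟩ := IsAlgClosed.exists_root (X ^ 2 + (X - C (χ σ)))
    (by rw [degree_add_eq_left_of_degree_lt (by rw [degree_X_pow, degree_X_sub_C]; decide), degree_X_pow]; decide)
  simp only [IsRoot.def, eval_add, eval_pow, eval_X, eval_sub, eval_C] at hβ
  refine good_root 1 (-σ) 2 1 β (by rw [map_one, map_neg]; linear_combination hβ) ?_ ?_ ?_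
  · rw [map_one, two]; simp
  · rw [map_one, map_ofNat, two]; simp
  intro B₃ _ k ξ s hξ hs hsrel hsu
  simp only [map_one, _root_.one_mul, map_neg, map_ofNat] at hsrel hsu
  let f : A →+* B₃ := k.comp (j.comp i)
  rw [WeierstrassCurve.map_map, WeierstrassCurve.map_map, WeierstrassCurve.map_map]
  let C : VariableChange B₃ := ⟨hsu.unit, -2 * k (j t), s, k (j t)⟩
  refine good_smul C 1 ?_
  rw [one_smul]
  change Good B₃ ξ (C • W₁.map f) (W₂.map f)
  have hF : ∀ a, ξ (f a) = φ a := fun a => by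
    change (ξ.comp k) ((j.comp i) a) = _
    rw [hξ]
    change (χ.comp j) (i a) = _
    rw [hχ]
    exact DFunLike.congr_fun hψ a
  -- the equations in `B₃`
  set T := k (j t) with hT
  set S := k σ with hS
  have r1 : s ^ 2 + s = S := by linear_combination hsrel
  have r2 : S * f W₂.b₂ = f W₁.a₂ - f W₂.a₂ - 6 * T := by
    have := congrArg k (congrArg (· * j (i W₂.b₂)) hσ)
    simp only [map_mul, map_sub, map_ofNat] at this
    have hb := congrArg k hbi
    simp only [map_mul, map_one] at hb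
    simp only [f, RingHom.comp_apply, S, T]
    linear_combination this + (k (j (i W₁.a₂)) - k (j (i W₂.a₂)) - 6 * k (j t)) * hb
  have r3 : 12 * T ^ 2 - f W₁.b₂ * T + f K = 0 := by
    have e : (12 : B) * t ^ 2 - i W₁.b₂ * t + i K = 0 := by
      rw [ht]
      linear_combination (i K * xi ^ 2) * hrel + (-i K * x * xi + i W₁.b₂ * i K * xi - i K) * hxi
    simpa [f, T, map_ofNat] using congrArg (k.comp j) e
  have r4 : f K * f W₂.c₄ = f W₂.b₂ ^ 2 * f W₁.a₄ - f W₁.b₂ ^ 2 * f W₂.a₄ := by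
    have := congrArg f (congrArg (· * W₂.c₄) hK)
    have hc' := congrArg f hc
    simp only [map_mul, map_sub, map_pow, map_one] at this hc'
    linear_combination this + (f W₂.b₂ ^ 2 * f W₁.a₄ - f W₁.b₂ ^ 2 * f W₂.a₄) * hc'
  have hb2 : f W₁.b₂ = 1 + 4 * f W₁.a₂ := by simp [b₂, h1, map_ofNat]
  have hb2' : f W₂.b₂ = 1 + 4 * f W₂.a₂ := by simp [b₂, h1', map_ofNat]
  have hc4' : f W₂.c₄ = (1 + 4 * f W₂.a₂) ^ 2 - 48 * f W₂.a₄ := by
    simp [c₄, b₂, b₄, h1', h3', map_ofNat]; ring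
  rw [hb2] at r3
  rw [hb2, hb2', hc4'] at r4
  rw [hb2'] at r2
  have hB : IsUnit ((1 + 4 * f W₂.a₂) ^ 2) := by
    rw [← hb2']; exact (((hbu.map k) : IsUnit (k (j (i W₂.b₂))))).pow 2
  set u : B₃ˣ := hsu.unit with hu'
  have hu2 : (u : B₃) = 2 * s + 1 := rfl
  have g4 : f W₂.a₄ * (u : B₃) ^ 4 = f W₁.a₄ - (1 + 4 * f W₁.a₂) * T + 12 * T ^ 2 := by
    apply hB.mul_left_cancel
    rw [hu2]
    have hz : (1 + 4 * f W₂.a₂) * (2 * s + 1) ^ 2 = 1 + 4 * f W₁.a₂ - 24 * T := by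
      linear_combination 4 * (1 + 4 * f W₂.a₂) * r1 + 4 * r2
    linear_combination f W₂.a₄ * ((1 + 4 * f W₂.a₂) * (2 * s + 1) ^ 2 + (1 + 4 * f W₁.a₂ - 24 * T)) * hz
      + r4 - ((1 + 4 * f W₂.a₂) ^ 2 - 48 * f W₂.a₄) * r3
  have g2 : f W₂.a₂ * (u : B₃) ^ 2 = f W₁.a₂ - s - 6 * T - s ^ 2 := by
    rw [hu2]
    linear_combination 4 * f W₂.a₂ * r1 + r2 + r1
  have e1 : (C • W₁.map f).a₁ = (W₂.map f).a₁ := by
    simp only [variableChange_a₁, map_a₁, h1, h1', map_one, C]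
    rw [← hu', Units.inv_mul_eq_iff_eq_mul, mul_one, hu2]; ring
  have e3 : (C • W₁.map f).a₃ = (W₂.map f).a₃ := by
    simp only [variableChange_a₃, map_a₁, map_a₃, h1, h3, h3', map_one, map_zero, C]; ring
  have e2 : (C • W₁.map f).a₂ = (W₂.map f).a₂ := by
    simp only [variableChange_a₂, map_a₁, map_a₂, h1, map_one, C]
    rw [← hu', ← Units.val_pow_eq_pow_val, inv_pow, Units.inv_mul_eq_iff_eq_mul, Units.val_pow_eq_pow_val]
    linear_combination -g2
  have e4 : (C • W₁.map f).a₄ = (W₂.map f).a₄ := by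
    simp only [variableChange_a₄, map_a₁, map_a₂, map_a₃, map_a₄, h1, h3, map_one, map_zero, C]
    rw [← hu', ← Units.val_pow_eq_pow_val, inv_pow, Units.inv_mul_eq_iff_eq_mul, Units.val_pow_eq_pow_val]
    linear_combination -g4
  refine good_away (w (C • W₁.map f) (W₂.map f)) ?_ fun B₄ _ l ζ hζ hw => ?_
  · have two₃ : ξ 2 = 0 := by rw [map_ofNat]; exact two
    have ebb : (C • W₁.map f).b₂ = f W₂.b₂ := by
      rw [← map_b₂]; simp only [b₂, e1, e2]
    simp only [w, ebb, map_sub, map_add, map_mul, map_neg, map_pow, map_ofNat, hF, hb',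
      show (36 : L) = 2 * 18 by norm_num, show (108 : L) = 2 * 54 by norm_num, two, zero_mul, sub_zero, add_zero,
      one_pow]
    exact neg_ne_zero.mpr one_ne_zero
  · refine good_of_w ?_ ?_ ?_ ?_ ?_ ?_ ?_
    · rw [map_j, map_j, variableChange_j, map_j, map_j, hj]
    · rw [map_c₄, variableChange_c₄, map_c₄]
      exact ((Units.isUnit _).pow 4 |>.mul (hu1.map f)).map l
    · have : w ((C • W₁.map f).map l) ((W₂.map f).map l) = l (w (C • W₁.map f) (W₂.map f)) := by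
        simp [w, map_ofNat]
      rwa [this]
    · simp only [map_a₁] ; exact congrArg l e1
    · simp only [map_a₂] ; exact congrArg l e2
    · simp only [map_a₃] ; exact congrArg l e3
    · simp only [map_a₄] ; exact congrArg l e4

theorem good_char_two [IsAlgClosed L] [W₁.IsElliptic] [W₂.IsElliptic] (hj : W₁.j = W₂.j) (h2 : φ 2 = 0)
    (h0 : IsUnit W₁.j) (h1728 : IsUnit (W₁.j - 1728)) : Good A φ W₁ W₂ := by
  have two : (2 : L) = 0 := by simpa [map_ofNat] using h2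
  have hne : ∀ W : WeierstrassCurve A, IsUnit W.c₄ → φ W.a₁ ≠ 0 := by
    intro W hW hz
    refine (hW.map φ).ne_zero ?_
    simp only [c₄, b₂, b₄, map_sub, map_add, map_mul, map_pow, map_ofNat, hz]
    linear_combination (8 * φ W.a₂ ^ 2 - 24 * φ W.a₄) * two
  obtain ⟨u4, -⟩ := isUnit_c₄_c₆ W₁ h0 h1728
  obtain ⟨u4', -⟩ := isUnit_c₄_c₆ W₂ (hj ▸ h0) (hj ▸ h1728)
  refine good_away (W₁.a₁ * W₂.a₁) (by rw [map_mul]; exact mul_ne_zero (hne _ u4) (hne _ u4')) fun B _ i ψ hψ hu => ?_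
  rw [map_mul, IsUnit.mul_iff] at hu
  obtain ⟨⟨a, ha⟩, ⟨a', ha'⟩⟩ := hu
  refine good_smul ⟨a, -(↑a⁻¹ * i W₁.a₃), 0, 0⟩ ⟨a', -(↑a'⁻¹ * i W₂.a₃), 0, 0⟩ ?_
  refine good_char_two_normal ?_ ?_ ?_ ?_ ?_ ?_ ?_ ?_
  · rw [variableChange_j, variableChange_j, map_j, map_j, hj]
  · rw [map_ofNat]; exact two
  · rw [variableChange_c₄, map_c₄]; exact ((Units.isUnit _).pow 4).mul (u4'.map i)
  · rw [variableChange_c₄, map_c₄]; exact ((Units.isUnit _).pow 4).mul (u4.map i)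
  · simp [variableChange_a₁, ← ha]
  · simp only [variableChange_a₃, map_a₁, map_a₃, ← ha]; linear_combination (-i W₁.a₃ * (↑a⁻¹ : B) ^ 3) * a.inv_mul
  · simp [variableChange_a₁, ← ha']
  · simp only [variableChange_a₃, map_a₁, map_a₃, ← ha']; linear_combination (-i W₂.a₃ * (↑a'⁻¹ : B) ^ 3) * a'.inv_mul

theorem exists_etale_nhd [W₁.IsElliptic] [W₂.IsElliptic] (hj : W₁.j = W₂.j) (h0 : IsUnit W₁.j)
    (h1728 : IsUnit (W₁.j - 1728)) (p : PrimeSpectrum A) :
    ∃ (B : Type u) (_ : CommRing B) (_ : Algebra A B), Algebra.Etale A B ∧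
      p ∈ Set.range (PrimeSpectrum.comap (algebraMap A B)) ∧
      ∃ C : VariableChange B, C • (W₁.map (algebraMap A B)) = W₂.map (algebraMap A B) := by
  let φ : A →+* AlgebraicClosure p.asIdeal.ResidueField :=
    (algebraMap p.asIdeal.ResidueField _).comp (algebraMap A p.asIdeal.ResidueField)
  have hg : Good A φ W₁ W₂ := by
    rcases eq_or_ne (φ 2) 0 with h | h
    · exact good_char_two hj h h0 h1728
    · refine good_away 2 h fun B _ i ψ hψ hu => good_two ?_ (by simpa [map_ofNat] using hu) ?_ ?_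
      · rw [map_j, map_j, hj]
      · rw [map_j]; exact h0.map i
      · rw [map_j]; simpa [map_ofNat] using h1728.map i
  obtain ⟨B, _, _, hB, ⟨ψ, hψ⟩, hC⟩ := hg
  refine ⟨B, inferInstance, inferInstance, hB, ⟨⟨RingHom.ker ψ, RingHom.ker_isPrime ψ⟩, ?_⟩, hC⟩
  apply PrimeSpectrum.ext
  change (RingHom.ker ψ).comap (algebraMap A B) = p.asIdeal
  rw [RingHom.comap_ker, hψ]
  ext a
  simp [φ, RingHom.mem_ker]

end Groth.Agent.EllLiftB

end
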