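import Mathlib.AlgebraicGeometry.EllipticCurve.VariableChange
import Mathlib.LinearAlgebra.Matrix.ToLin
import Mathlib.LinearAlgebra.Basis.VectorSpace
import Mathlib.RingTheory.Nilpotent.Lemmas
import Mathlib.RingTheory.Noetherian.Nilpotent
import Mathlib.Tactic.LinearCombination
import Mathlib.Tactic.FinCases

/-! No infinitesimal automorphisms of an elliptic Weierstrass equation. -/

universe u v

open WeierstrassCurve Matrix

noncomputable section

namespace Groth.Agent.EllLiftB

variable {k : Type u} [Field k]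

/-- tangent map of the orbit of `W` in the coordinates `(u - 1, r, s, t)` -/
def tangent (W : WeierstrassCurve k) : Matrix (Fin 5) (Fin 4) k :=
  !![-W.a₁, 0, 2, 0; -2 * W.a₂, 3, -W.a₁, 0; -3 * W.a₃, W.a₁, 0, 2; -4 * W.a₄, 2 * W.a₂, -W.a₃, -W.a₁;
    -6 * W.a₆, W.a₄, 0, -W.a₃]

theorem tangent_injective (W : WeierstrassCurve k) (hΔ : W.Δ ≠ 0) (e r s t : k)
    (h1 : -W.a₁ * e + 2 * s = 0) (h2 : -2 * W.a₂ * e + 3 * r - W.a₁ * s = 0)
    (h3 : -3 * W.a₃ * e + W.a₁ * r + 2 * t = 0)
    (h4 : -4 * W.a₄ * e + 2 * W.a₂ * r - W.a₃ * s - W.a₁ * t = 0)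
    (h6 : -6 * W.a₆ * e + W.a₄ * r - W.a₃ * t = 0) : e = 0 ∧ r = 0 ∧ s = 0 ∧ t = 0 := by
  by_cases two : (2 : k) = 0
  · by_cases ha : W.a₁ = 0
    · have hr : r = 0 := by linear_combination h2 + (W.a₂ * e - r) * two + s * ha
      have ha3 : W.a₃ ≠ 0 := fun h => hΔ (by
        simp only [Δ, b₂, b₄, b₆, b₈, ha, h]
        linear_combination (-8 * W.a₂ ^ 2 * (4 * W.a₂ * W.a₆ - W.a₄ ^ 2) - 32 * W.a₄ ^ 3 - 216 * W.a₆ ^ 2
          + 144 * W.a₂ * W.a₄ * W.a₆) * two)
      have he : e = 0 := by
        have : W.a₃ * e = 0 := by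
          linear_combination h3 + (2 * W.a₃ * e - t) * two - r * ha
        exact (mul_eq_zero.mp this).resolve_left ha3
      have ht : t = 0 := by
        have : W.a₃ * t = 0 := by linear_combination -h6 + (-3 * W.a₆) * e * two + W.a₄ * hr
        exact (mul_eq_zero.mp this).resolve_left ha3
      have hs : s = 0 := by
        have : W.a₃ * s = 0 := by
          linear_combination -h4 + (-2 * W.a₄ * e + W.a₂ * r) * two - t * ha
        exact (mul_eq_zero.mp this).resolve_left ha3
      exact ⟨he, hr, hs, ht⟩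
    · have he : e = 0 := by
        have : W.a₁ * e = 0 := by linear_combination -h1 + s * two
        exact (mul_eq_zero.mp this).resolve_left ha
      subst he
      have hr : r = 0 := by
        have : W.a₁ * r = 0 := by linear_combination h3 - t * two
        exact (mul_eq_zero.mp this).resolve_left ha
      subst hr
      have hs : s = 0 := by
        have : W.a₁ * s = 0 := by linear_combination -h2
        exact (mul_eq_zero.mp this).resolve_left ha
      subst hs
      have : W.a₁ * t = 0 := by linear_combination -h4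
      exact ⟨rfl, rfl, rfl, (mul_eq_zero.mp this).resolve_left ha⟩
  · have d2 : 12 * r - 2 * W.b₂ * e = 0 := by simp only [b₂]; linear_combination 4 * h2 + 2 * W.a₁ * h1
    have d4 : W.b₂ * r - 4 * W.b₄ * e = 0 := by
      simp only [b₂, b₄]; linear_combination 2 * h4 + W.a₁ * h3 + W.a₃ * h1
    have d6 : 2 * W.b₄ * r - 6 * W.b₆ * e = 0 := by
      simp only [b₄, b₆]; linear_combination 4 * h6 + 2 * W.a₃ * h3
    have key : e = 0 ∧ r = 0 := by
      by_cases he : e = 0
      · subst he
        refine ⟨rfl, by_contra fun hr => hΔ ?_⟩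
        have three : (3 : k) = 0 := by
          have : (2 * 2 * r) * 3 = 0 := by linear_combination d2
          simpa [two, hr] using this
        have hb2 : W.b₂ = 0 := by simpa [hr] using d4
        have hb4 : W.b₄ = 0 := by simpa [hr, two] using d6
        simp only [Δ, hb2, hb4]
        linear_combination (-9 * W.b₆ ^ 2) * three
      · exfalso
        apply hΔ
        by_cases three : (3 : k) = 0
        · have hb2 : W.b₂ = 0 := by
            have : (2 * e) * W.b₂ = 0 := by linear_combination -d2 + 4 * r * three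
            simpa [two, he] using this
          have hb4 : W.b₄ = 0 := by
            have : (2 * 2 * e) * W.b₄ = 0 := by linear_combination -d4 + r * hb2
            simpa [two, he] using this
          simp only [Δ, hb2, hb4]
          linear_combination (-9 * W.b₆ ^ 2) * three
        · have hc4 : W.c₄ = 0 := by
            have : 2 * e ^ 2 * W.c₄ = 0 := by
              simp only [c₄]; linear_combination (12 * e) * d4 - (W.b₂ * e) * d2
            simpa [two, he] using this
          have hc6 : W.c₆ = 0 := by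
            have : 2 * e ^ 2 * W.c₆ = 0 := by
              simp only [c₆]
              linear_combination (72 * e) * d6 + (36 * r - 18 * W.b₂ * e) * d4 + W.b₂ * (W.b₂ * e - 3 * r) * d2
            simpa [two, he] using this
          have : (2 ^ 6 * 3 ^ 3) * W.Δ = 0 := by
            linear_combination W.c_relation + W.c₄ ^ 2 * hc4 - W.c₆ * hc6
          simpa [two, three] using this
    obtain ⟨rfl, rfl⟩ := key
    have hs : 2 * s = 0 := by linear_combination h1
    have ht : 2 * t = 0 := by linear_combination h3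
    exact ⟨rfl, rfl, by simpa [two] using hs, by simpa [two] using ht⟩

theorem exists_tangent_leftInverse (W : WeierstrassCurve k) (hΔ : W.Δ ≠ 0) :
    ∃ G : Matrix (Fin 4) (Fin 5) k, G * tangent W = 1 := by
  obtain ⟨g, hg⟩ := (Matrix.toLin' (tangent W)).exists_leftInverse_of_injective (LinearMap.ker_eq_bot'.mpr fun v hv => by
    have h := congrFun (show tangent W *ᵥ v = 0 from hv)
    have h1 := h 0; have h2 := h 1; have h3 := h 2; have h4 := h 3; have h6 := h 4
    simp [tangent, Matrix.mulVec, dotProduct, Fin.sum_univ_four] at h1 h2 h3 h4 h6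
    obtain ⟨a, b, c, d⟩ := tangent_injective W hΔ (v 0) (v 1) (v 2) (v 3) (by linear_combination h1)
      (by linear_combination h2) (by linear_combination h3) (by linear_combination h4) (by linear_combination h6)
    funext i; fin_cases i <;> assumption)
  refine ⟨LinearMap.toMatrix' g, ?_⟩
  rw [← LinearMap.toMatrix'_toLin' (tangent W), ← LinearMap.toMatrix'_comp, hg, LinearMap.toMatrix'_id]

/-- an automorphism congruent to the identity modulo nilpotents is the identity -/
theorem rigid {B : Type v} [CommRing B] (ψ : k →+* B) (W : WeierstrassCurve k) (hΔ : W.Δ ≠ 0)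
    (D : VariableChange B) (hD : D • W.map ψ = W.map ψ) (he : IsNilpotent ((D.u : B) - 1))
    (hr : IsNilpotent D.r) (hs : IsNilpotent D.s) (ht : IsNilpotent D.t) : D = 1 := by
  obtain ⟨G, hG⟩ := exists_tangent_leftInverse W hΔ
  let x : Fin 4 → B := ![(D.u : B) - 1, D.r, D.s, D.t]
  set I := Ideal.span (Set.range x) with hI
  have hx : ∀ i, x i ∈ I := fun i => Ideal.subset_span ⟨i, rfl⟩
  have key : ∀ i, ((tangent W).map ψ *ᵥ x) i ∈ I ^ 2 := by
    have m2 : ∀ {a b : B}, a ∈ I → b ∈ I → a * b ∈ I ^ 2 := fun ha hb => pow_two I ▸ Ideal.mul_mem_mul ha hb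
    have e0 := hx 0; have e1 := hx 1; have e2 := hx 2; have e3 := hx 3
    have mul : ∀ {a b : B}, a = b → b * 1 = a := fun h => by rw [h, mul_one]
    have eq1 := congrArg (fun V : WeierstrassCurve B => V.a₁) hD
    have eq2 := congrArg (fun V : WeierstrassCurve B => V.a₂) hD
    have eq3 := congrArg (fun V : WeierstrassCurve B => V.a₃) hD
    have eq4 := congrArg (fun V : WeierstrassCurve B => V.a₄) hD
    have eq6 := congrArg (fun V : WeierstrassCurve B => V.a₆) hD
    simp only [variableChange_a₁, variableChange_a₂, variableChange_a₃, variableChange_a₄, variableChange_a₆,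
      map_a₁, map_a₂, map_a₃, map_a₄, map_a₆] at eq1 eq2 eq3 eq4 eq6
    have cl : ∀ (n : ℕ) {a b : B}, (↑D.u⁻¹ : B) ^ n * a = b → a = (D.u : B) ^ n * b := fun n a b h => by
      rw [← h, ← _root_.mul_assoc, ← mul_pow, Units.mul_inv, one_pow, _root_.one_mul]
    have eq1' := cl 1 (a := ψ W.a₁ + 2 * D.s) (b := ψ W.a₁) (by rw [pow_one]; exact eq1)
    have eq2' := cl 2 eq2
    have eq3' := cl 3 eq3
    have eq4' := cl 4 eq4
    have eq6' := cl 6 eq6
    clear eq1 eq2 eq3 eq4 eq6
    rename' eq1' => eq1, eq2' => eq2, eq3' => eq3, eq4' => eq4, eq6' => eq6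
    set e := (D.u : B) - 1 with hedef
    have hu : (D.u : B) = 1 + e := by simp [hedef]
    rw [hu] at eq1 eq2 eq3 eq4 eq6
    intro i
    fin_cases i
    · simp [tangent, Matrix.mulVec, dotProduct, Fin.sum_univ_four, x, map_ofNat, ← hedef]
      convert zero_mem (I ^ 2) using 1
      linear_combination eq1
    · simp [tangent, Matrix.mulVec, dotProduct, Fin.sum_univ_four, x, map_ofNat, ← hedef]
      have : D.s * D.s + ψ W.a₂ * (e * e) ∈ I ^ 2 := add_mem (m2 e2 e2) (Ideal.mul_mem_left _ _ (m2 e0 e0))
      convert this using 1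
      linear_combination eq2
    · simp [tangent, Matrix.mulVec, dotProduct, Fin.sum_univ_four, x, map_ofNat, ← hedef]
      have : (3 + e) * ψ W.a₃ * (e * e) ∈ I ^ 2 := Ideal.mul_mem_left _ _ (m2 e0 e0)
      convert this using 1
      linear_combination eq3
    · simp [tangent, Matrix.mulVec, dotProduct, Fin.sum_univ_four, x, map_ofNat, ← hedef]
      have : (6 + 4 * e + e ^ 2) * ψ W.a₄ * (e * e) + ψ W.a₁ * (D.r * D.s) + (-3) * (D.r * D.r) + 2 * (D.s * D.t)
          ∈ I ^ 2 := add_mem (add_mem (add_mem (Ideal.mul_mem_left _ _ (m2 e0 e0)) (Ideal.mul_mem_left _ _ (m2 e1 e2)))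
            (Ideal.mul_mem_left _ _ (m2 e1 e1))) (Ideal.mul_mem_left _ _ (m2 e2 e3))
      convert this using 1
      linear_combination eq4
    · simp [tangent, Matrix.mulVec, dotProduct, Fin.sum_univ_four, x, map_ofNat, ← hedef]
      have : (15 + 20 * e + 15 * e ^ 2 + 6 * e ^ 3 + e ^ 4) * ψ W.a₆ * (e * e) + (-(ψ W.a₂) - D.r) * (D.r * D.r)
          + 1 * (D.t * D.t) + ψ W.a₁ * (D.r * D.t) ∈ I ^ 2 :=
        add_mem (add_mem (add_mem (Ideal.mul_mem_left _ _ (m2 e0 e0)) (Ideal.mul_mem_left _ _ (m2 e1 e1)))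
            (Ideal.mul_mem_left _ _ (m2 e3 e3))) (Ideal.mul_mem_left _ _ (m2 e1 e3))
      convert this using 1
      linear_combination eq6
  have hle : I ≤ I ^ 2 := by
    rw [hI, Ideal.span_le, ← hI]
    rintro _ ⟨l, rfl⟩
    have : G.map ψ *ᵥ ((tangent W).map ψ *ᵥ x) = x := by
      rw [Matrix.mulVec_mulVec, ← Matrix.map_mul, hG, Matrix.map_one _ (map_zero ψ) (map_one ψ), Matrix.one_mulVec]
    rw [← this]
    change ∑ i, G.map ψ l i * _ ∈ I ^ 2
    exact sum_mem fun i _ => Ideal.mul_mem_left _ _ (key i)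
  obtain ⟨n, hn⟩ := (Ideal.FG.isNilpotent_iff_le_nilradical (I := I) (Submodule.fg_span (Set.finite_range x))).mpr (by
    rw [Ideal.span_le]
    rintro _ ⟨l, rfl⟩
    fin_cases l
    exacts [he, hr, hs, ht])
  have hall : ∀ m, I ≤ I ^ (m + 1) := by
    intro m
    induction m with
    | zero => rw [pow_one]
    | succ m ih =>
      refine ih.trans ?_
      rw [pow_succ, pow_succ (I) (m + 1)]
      calc I ^ m * I ≤ I ^ m * I ^ 2 := Ideal.mul_mono_right hle
        _ = I ^ (m + 1) * I := by rw [← pow_add, ← pow_succ]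
  have h0 : ∀ i, x i = 0 := fun i => by
    have h := Ideal.pow_le_pow_right (Nat.le_succ n) (hall n (hx i))
    rw [hn] at h; simpa using h
  refine WeierstrassCurve.VariableChange.ext (Units.ext ?_) (h0 1) (h0 2) (h0 3)
  rw [VariableChange.one_def, Units.val_one]
  exact sub_eq_zero.mp (h0 0)

end Groth.Agent.EllLiftB

end
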